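import Groth.Agent.Lib.LciGrp13.Affine
import Groth.Agent.Lib.AffMono14.Basic
import Groth.Agent.Lib.FlatFactor.Orbit
import Groth.Agent.Lib.GrpSchField.Criteria
import Groth.Agent.Lib.Frob.Perfect
import Groth.Agent.Lib.GrpDeligne.Factor
import Groth.Agent.Lib.LCI6.Syntomic
import Groth.Agent.S5355
import Groth.Prelude.Def_W4c3convisocdirimgFrobIter
import Mathlib

/-!
# Group schemes are local complete intersections over fields, and syntomic when flat
-/

universe u

open CategoryTheory CategoryTheory.Limits MonoidalCategory CartesianMonoidalCategory MonObj AlgebraicGeometry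
open FrobSch

set_option backward.isDefEq.respectTransparency false
set_option synthInstance.maxHeartbeats 100000

noncomputable section

namespace GrothLib.LciGrp13

open GrothLib.LCI6

section Frobenius

variable {p : ℕ} [Fact p.Prime]

theorem frobIter_comp {X Y : Scheme.{u}} [IsCharP X p] [IsCharP Y p] (f : X ⟶ Y) :
    ∀ n, frobIter X p n ≫ f = f ≫ frobIter Y p n
  | 0 => by simp
  | n + 1 => by
    rw [frobIter_succ, frobIter_succ, Category.assoc, frobIter_comp f n, frob_comp_assoc]

theorem frobIter_apply (X : Scheme.{u}) [IsCharP X p] : ∀ (n : ℕ) (x : X), frobIter X p n x = x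
  | 0, x => rfl
  | n + 1, x => by
    rw [frobIter_succ, Scheme.Hom.comp_apply, frob_apply, frobIter_apply X n]

theorem frobIter_app_eq_zero (X : Scheme.{u}) [IsCharP X p] :
    ∀ (n : ℕ) (U : X.Opens) (s : Γ(X, U)), s ^ p ^ n = 0 → (frobIter X p n).app U s = 0
  | 0, U, s, h => by
    rw [pow_zero, pow_one] at h
    rw [h, map_zero]
  | n + 1, U, s, h => by
    have h1 : (s ^ p) ^ p ^ n = 0 := by rw [← pow_mul, ← pow_succ']; exact h
    show (frob X p).app _ ((frobIter X p n).app U s) = 0
    rw [frob_app, ← map_pow]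
    exact frobIter_app_eq_zero X n U (s ^ p) h1

theorem isIso_frobIter (X : Scheme.{u}) [IsCharP X p] (h : IsPerfect X p) : ∀ n, IsIso (frobIter X p n)
  | 0 => by rw [frobIter_zero]; infer_instance
  | n + 1 => by
    haveI := h; haveI := isIso_frobIter X h n
    rw [frobIter_succ]; infer_instance

/-- On a noetherian scheme some iterate of the absolute Frobenius kills the nilradical. -/
theorem exists_nilradical_le (X : Scheme.{u}) [IsCharP X p] [IsNoetherian X] :
    ∃ n, ∀ [QuasiCompact (frobIter X p n)], X.nilradical ≤ (frobIter X p n).ker := by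
  classical
  obtain ⟨t, ht⟩ := isCompact_univ.elim_finite_subcover (fun V : X.affineOpens => (V.1 : Set X))
    (fun V => V.1.2) (fun z _ => by
      obtain ⟨W, hW, hzW, -⟩ := GrothLib.LCI6.exists_affine_le (x := z) (O := (⊤ : X.Opens)) trivial
      exact Set.mem_iUnion.mpr ⟨⟨W, hW⟩, hzW⟩)
  let U : t → X.affineOpens := fun V => V.1
  have hU : ⨆ i, (U i).1 = ⊤ := by
    refine TopologicalSpace.Opens.ext (Set.eq_univ_of_forall fun z => ?_)
    obtain ⟨V, hV, hz⟩ := Set.mem_iUnion₂.mp (ht (Set.mem_univ z))
    exact TopologicalSpace.Opens.mem_iSup.mpr ⟨⟨V, hV⟩, hz⟩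
  have hN : ∀ i, ∃ m : ℕ, ∀ a : Γ(X, (U i).1), IsNilpotent a → a ^ p ^ m = 0 := fun i => by
    haveI : IsNoetherianRing Γ(X, (U i).1) := IsLocallyNoetherian.component_noetherian (U i)
    obtain ⟨m, hm⟩ := IsNoetherianRing.isNilpotent_nilradical Γ(X, (U i).1)
    refine ⟨m, fun a ha => pow_eq_zero_of_le (Nat.lt_pow_self (Fact.out : p.Prime).one_lt).le ?_⟩
    simpa [hm] using Ideal.pow_mem_pow (mem_nilradical.mpr ha) m
  choose m hm using hN
  refine ⟨Finset.univ.sup m, fun {_} => Scheme.IdealSheafData.le_of_iSup_eq_top U hU fun i a ha => ?_⟩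
  rw [Scheme.Hom.ker_apply, RingHom.mem_ker]
  refine frobIter_app_eq_zero X _ _ a (pow_eq_zero_of_le ?_ (hm i a ?_))
  · exact Nat.pow_le_pow_right (Fact.out : p.Prime).pos (Finset.le_sup (Finset.mem_univ i))
  · exact mem_nilradical.mp ha

variable {k : Type u} [Field k] [IsCharP (Spec (CommRingCat.of k)) p]

local notation "S" => Spec (CommRingCat.of k)

/-- The iterated relative Frobenius. -/
def relIter (n : ℕ) (X : Over S) : X ⟶ (Over.pullback (frobIter S p n)).obj X :=
  haveI : IsCharP X.left p := IsCharP.of_hom X.hom p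
  Over.homMk (pullback.lift (frobIter X.left p n) X.hom (frobIter_comp X.hom n)) (pullback.lift_snd _ _ _)

theorem relIter_fst (n : ℕ) (X : Over S) [IsCharP X.left p] :
    (relIter (p := p) n X).left ≫ pullback.fst X.hom (frobIter S p n) = frobIter X.left p n :=
  pullback.lift_fst _ _ _

theorem relIter_natural (n : ℕ) {X Y : Over S} (f : X ⟶ Y) :
    f ≫ relIter (p := p) n Y = relIter (p := p) n X ≫ (Over.pullback (frobIter S p n)).map f := by
  haveI : IsCharP X.left p := IsCharP.of_hom X.hom p
  haveI : IsCharP Y.left p := IsCharP.of_hom Y.hom p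
  refine Over.OverMorphism.ext (pullback.hom_ext ?_ ?_)
  · show (f.left ≫ pullback.lift _ _ _) ≫ pullback.fst _ _ =
      (pullback.lift _ _ _ ≫ pullback.lift _ _ _) ≫ pullback.fst _ _
    simp only [Category.assoc, pullback.lift_fst, pullback.lift_fst_assoc]
    exact (frobIter_comp f.left n).symm
  · show (f.left ≫ pullback.lift _ _ _) ≫ pullback.snd _ _ =
      (pullback.lift _ _ _ ≫ pullback.lift _ _ _) ≫ pullback.snd _ _
    simp only [Category.assoc, pullback.lift_snd]
    exact Over.w f

instance isMonHom_relIter (n : ℕ) (G : Over S) [GrpObj G] :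
    letI : GrpObj ((Over.pullback (frobIter S p n)).obj G) := Functor.grpObjObj
    IsMonHom (relIter (p := p) n G) := by
  letI : GrpObj ((Over.pullback (frobIter S p n)).obj G) := Functor.grpObjObj
  let F := Over.pullback (frobIter S p n)
  refine ⟨?_, ?_⟩
  · rw [relIter_natural, Functor.obj.η_def]
    congr 1
    rw [← cancel_mono (Functor.OplaxMonoidal.η F)]
    exact toUnit_unique _ _
  · rw [relIter_natural, Functor.obj.μ_def, ← Category.assoc]
    congr 1
    rw [← cancel_mono (Functor.OplaxMonoidal.δ F G G), Category.assoc, Functor.Monoidal.μ_δ, Category.comp_id]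
    apply CartesianMonoidalCategory.hom_ext
    · rw [Category.assoc, Functor.OplaxMonoidal.δ_fst, ← relIter_natural, tensorHom_fst]
    · rw [Category.assoc, Functor.OplaxMonoidal.δ_snd, ← relIter_natural, tensorHom_snd]

end Frobenius

variable {k : Type u} [Field k]

/-- A group scheme of finite type over a perfect field is lci. -/
theorem inLocus_of_perfectField [PerfectField k] (G : Over (Spec (CommRingCat.of k))) [GrpObj G]
    [LocallyOfFiniteType G.hom] [QuasiCompact G.hom] (x : G.left) : InLocus G.hom x := by
  obtain ⟨p, hp⟩ := CharP.exists k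
  rcases (CharP.char_is_prime_or_zero k p) with hprime | rfl
  swap
  · haveI : CharZero k := CharP.charP_to_charZero k
    haveI := GrothLib.GrpSchField.smooth_of_charZero G
    exact inLocus_of_smooth _ x
  haveI : Fact p.Prime := ⟨hprime⟩
  haveI : PerfectRing k p := PerfectField.toPerfectRing p
  haveI : IsLocallyNoetherian G.left := LocallyOfFiniteType.isLocallyNoetherian G.hom
  haveI : CompactSpace G.left := QuasiCompact.compactSpace_of_compactSpace G.hom
  haveI : IsNoetherian G.left := ⟨⟩
  haveI : IsCharP G.left p := IsCharP.of_hom G.hom p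
  obtain ⟨n, hn⟩ := exists_nilradical_le (p := p) G.left
  let σ := frobIter (Spec (CommRingCat.of k)) p n
  haveI : IsIso σ := isIso_frobIter _
    (GrothLib.Frob.isPerfect_Spec p k (CharP.cast_eq_zero k p) (bijective_frobenius k p)) n
  let G' := (Over.pullback σ).obj G
  letI : GrpObj G' := Functor.grpObjObj
  haveI : LocallyOfFiniteType G'.hom := inferInstanceAs (LocallyOfFiniteType (pullback.snd G.hom σ))
  let φ : G ⟶ G' := relIter (p := p) n G
  haveI : IsMonHom φ := isMonHom_relIter n G
  obtain ⟨H, _, j, hjm, hj, hH, hjs⟩ := GrothLib.AffMono14.exists_red G'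
  haveI := hjm; haveI := hj; haveI := hjs; haveI := hH
  haveI : LocallyOfFiniteType H.hom := by rw [← Over.w j]; infer_instance
  haveI : IsSeparated H.hom := GrothLib.GrpSchField.isSeparated H
  haveI : IsSeparated G.hom := GrothLib.GrpSchField.isSeparated G
  haveI : QuasiCompact (frobIter G.left p n) := by
    have h : QuasiCompact (frobIter G.left p n ≫ G.hom) := by
      rw [frobIter_comp G.hom n]; exact inferInstanceAs (QuasiCompact (G.hom ≫ σ))
    exact QuasiCompact.of_comp _ G.hom
  let j' : H.left ⟶ G.left := j.left ≫ pullback.fst G.hom σ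
  haveI : IsClosedImmersion j' := inferInstanceAs (IsClosedImmersion (j.left ≫ pullback.fst G.hom σ))
  have hle : j'.ker ≤ (frobIter G.left p n).ker := by
    refine le_trans ?_ hn
    rw [← Scheme.IdealSheafData.vanishingIdeal_top, ← Scheme.IdealSheafData.le_support_iff_le_vanishingIdeal]
    intro z _
    rw [← SetLike.mem_coe, Scheme.Hom.support_ker]
    haveI : Surjective j' := inferInstanceAs (Surjective (j.left ≫ pullback.fst G.hom σ))
    exact subset_closure (j'.surjective z)
  let l := IsClosedImmersion.lift j' (frobIter G.left p n) hle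
  have hl : l ≫ j.left = φ.left := by
    rw [← cancel_mono (pullback.fst G.hom σ), Category.assoc]
    exact (IsClosedImmersion.lift_fac _ _ _).trans (relIter_fst n G).symm
  let q : G ⟶ H := Over.homMk l (by rw [← Over.w j, reassoc_of% hl]; exact Over.w φ)
  have hq : q ≫ j = φ := Over.OverMorphism.ext hl
  haveI : Mono j := Over.mono_of_mono_left j
  haveI : IsMonHom q :=
    { one_hom := by rw [← cancel_mono j, Category.assoc, hq, IsMonHom.one_hom, IsMonHom.one_hom]
      mul_hom := by
        rw [← cancel_mono j, Category.assoc, hq, IsMonHom.mul_hom, Category.assoc, IsMonHom.mul_hom,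
          ← Category.assoc, tensorHom_comp_tensorHom, hq] }
  have hbase : ∀ z, j' (q.left z) = z := fun z => by
    rw [← Scheme.Hom.comp_apply, show q.left ≫ j' = frobIter G.left p n from IsClosedImmersion.lift_fac _ _ _,
      frobIter_apply]
  have hinj : Function.Injective q.left := fun a b hab => by rw [← hbase a, ← hbase b, hab]
  haveI hqs : Surjective q.left := ⟨fun y => ⟨j' y, j'.isClosedEmbedding.injective (hbase _)⟩⟩
  haveI : QuasiCompact q.left := by
    haveI : QuasiCompact (q.left ≫ H.hom) := by rw [Over.w q]; infer_instance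
    exact QuasiCompact.of_comp q.left H.hom
  haveI : Smooth H.hom := GrothLib.GrpSchField.smooth_of_perfectField_of_isReduced H
  haveI : Flat q.left := (Groth.Agent.S5355.result k G H q hqs.surj.denseRange).2 hH
  haveI : LocallyOfFiniteType q.left := by
    have h : LocallyOfFiniteType (q.left ≫ H.hom) := by rw [Over.w q]; infer_instance
    exact locallyOfFiniteType_of_comp q.left H.hom
  haveI : IsLocallyNoetherian H.left := LocallyOfFiniteType.isLocallyNoetherian H.hom
  haveI : LocallyOfFinitePresentation q.left := inferInstance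
  -- the kernel
  let N : Over (Spec (CommRingCat.of k)) := Over.mk (pullback.snd q.left η[H].left)
  let i : N ⟶ G := Over.homMk (pullback.fst q.left η[H].left) (by
    show _ = pullback.snd _ _
    rw [← Over.w q, pullback.condition_assoc, show η[H].left ≫ H.hom = 𝟙 _ from Over.w η[H]]
    exact Category.comp_id _)
  have hsq : IsPullback i (toUnit N) q η[H] := by
    have h : IsPullback i.left (toUnit N).left q.left η[H].left := by
      have e : (toUnit N).left = pullback.snd q.left η[H].left :=
        (Category.comp_id _).symm.trans (Over.w (toUnit N))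
      rw [e]
      exact IsPullback.of_hasPullback _ _
    exact IsPullback.of_map (Over.forget _) (Over.OverMorphism.ext h.w) h
  obtain ⟨hNgrp, -⟩ := GrothLib.GrpDeligne.exists_grpObj_kernel q i hsq
  haveI : LocallyOfFiniteType N.hom := inferInstanceAs (LocallyOfFiniteType (pullback.snd q.left η[H].left))
  haveI : IsClosedImmersion η[H].left := by
    have h : η[H].left ≫ H.hom = 𝟙 _ := Over.w η[H]
    exact isClosedImmersion_of_comp_eq_id (Y := Spec (CommRingCat.of k)) _ _ h
  haveI : Subsingleton N.left := ⟨fun a b => by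
    haveI : IsClosedImmersion i.left := inferInstanceAs (IsClosedImmersion (pullback.fst q.left η[H].left))
    apply i.left.isClosedEmbedding.injective
    apply hinj
    rw [← Scheme.Hom.comp_apply, ← Scheme.Hom.comp_apply,
      show i.left ≫ q.left = pullback.snd q.left η[H].left ≫ η[H].left from pullback.condition,
      Scheme.Hom.comp_apply, Scheme.Hom.comp_apply]
    haveI : Subsingleton ↥(Spec (CommRingCat.of k)) := inferInstanceAs (Subsingleton (PrimeSpectrum k))
    exact congrArg _ (@Subsingleton.elim _ ‹Subsingleton ↥(Spec (CommRingCat.of k))› _ _)⟩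
  haveI : IsAffine N.left := inferInstance
  obtain ⟨Q', _, p', i', _, _, hpi', _, _, _, hi'm, _, _, sq⟩ :=
    GrothLib.FlatFactor.exists_hom_factor (Or.inl inferInstance) q i hsq
  haveI := hi'm
  have sqf : IsPullback ((G ◁ i) ≫ μ[G]) (fst G N) q q := by
    rw [← hpi']
    exact ⟨⟨by rw [← Category.assoc, sq.w, Category.assoc]⟩, ⟨PullbackCone.IsLimit.mk _
      (fun s => sq.lift s.fst s.snd (by rw [← cancel_mono i', Category.assoc, Category.assoc]; exact s.condition))
      (fun s => sq.lift_fst _ _ _) (fun s => sq.lift_snd _ _ _)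
      fun s m h₁ h₂ => sq.hom_ext (by rw [sq.lift_fst, h₁]) (by rw [sq.lift_snd, h₂])⟩⟩
  haveI : Surjective G.hom := GrothLib.GrpSchField.surjective_hom G
  have hq' : InLocus q.left x := (torsor_iff q sqf).mpr (fun y => inLocus_of_isAffine N y) x
  rw [← Over.w q]
  exact inLocus_comp hq' (inLocus_of_smooth H.hom _)

/-- A flat, locally finitely presented, quasi-compact group scheme is syntomic. -/
theorem isSyntomicMor {B : Scheme.{u}} (G : Over B) [GrpObj G] [Flat G.hom] [LocallyOfFinitePresentation G.hom]
    [QuasiCompact G.hom] : Synt.IsSyntomicMor G.hom := by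
  intro x
  let K := AlgebraicClosure (B.residueField (G.hom x))
  let b : Spec (CommRingCat.of K) ⟶ B :=
    Spec.map (CommRingCat.ofHom (algebraMap (B.residueField (G.hom x)) K)) ≫ B.fromSpecResidueField (G.hom x)
  let GK := (Over.pullback b).obj G
  letI : GrpObj GK := Functor.grpObjObj
  haveI : LocallyOfFiniteType GK.hom := inferInstanceAs (LocallyOfFiniteType (pullback.snd G.hom b))
  haveI : QuasiCompact GK.hom := inferInstanceAs (QuasiCompact (pullback.snd G.hom b))
  obtain ⟨z, hz, -⟩ := Scheme.Pullback.exists_preimage_pullback (f := G.hom) (g := b) x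
    (IsLocalRing.closedPoint K) (by
      show G.hom x = (Spec.map _ ≫ B.fromSpecResidueField (G.hom x)) _
      rw [Scheme.Hom.comp_apply, Scheme.fromSpecResidueField_apply])
  have h := (inLocus_iff_of_isPullback (IsPullback.of_hasPullback G.hom b) z).mp (inLocus_of_perfectField GK z)
  rw [hz] at h
  obtain ⟨U, V, hU, hV, hUV, hxU, hl⟩ := h
  refine ⟨⟨U, hU⟩, ⟨V, hV⟩, hUV, hxU, ?_⟩
  letI := (G.hom.appLE V U hUV).hom.toAlgebra
  exact GrothLib.LCI6.isSyntomic_iff.mpr
    ⟨HasRingHomProperty.appLE (P := @Flat) G.hom inferInstance ⟨V, hV⟩ ⟨U, hU⟩ hUV, hl⟩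

end GrothLib.LciGrp13
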