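import Groth.Agent.Lib.LCI6.InLocus
import Groth.Agent.Lib.LCI6.LocusBaseChange
import Groth.Agent.Lib.FppfSource.Scheme
import Groth.Agent.Lib.Repr.Faithful
import Groth.Agent.S3279
import Mathlib

/-!
# Affine group schemes of finite type over a field are local complete intersections
-/

universe u

open CategoryTheory CategoryTheory.Limits MonoidalCategory CartesianMonoidalCategory MonObj AlgebraicGeometry

set_option backward.isDefEq.respectTransparency false

noncomputable section

namespace GrothLib.LciGrp13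

open GrothLib.LCI6

/-- Base change of the locus along an arbitrary morphism, for a flat morphism locally of finite presentation. -/
theorem inLocus_iff_of_isPullback {X Y X' Y' : Scheme.{u}} {f : X ⟶ Y} {f' : X' ⟶ Y'} {gX : X' ⟶ X} {gY : Y' ⟶ Y}
    [Flat f] [LocallyOfFinitePresentation f] (sq : IsPullback gX f' f gY) (x' : X') :
    InLocus f' x' ↔ InLocus f (gX x') := by
  haveI : Flat (f ≫ 𝟙 Y) := by rw [Category.comp_id]; infer_instance
  haveI : LocallyOfFinitePresentation (f ≫ 𝟙 Y) := by rw [Category.comp_id]; infer_instance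
  exact inLocus_baseChange f (𝟙 Y) gY gY (𝟙 Y') (IsPullback.of_vert_isIso ⟨by simp⟩) gX f'
    (by simpa using sq) sq.w x'

/-- A morphism flat and locally of finite presentation is lci everywhere if it is so after a surjective base change. -/
theorem inLocus_of_surjective_pullback {X Y X' Y' : Scheme.{u}} {f : X ⟶ Y} {f' : X' ⟶ Y'} {gX : X' ⟶ X} {gY : Y' ⟶ Y}
    [Flat f] [LocallyOfFinitePresentation f] [Surjective gY] (sq : IsPullback gX f' f gY)
    (h : ∀ x', InLocus f' x') (x : X) : InLocus f x := by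
  haveI : Surjective gX := MorphismProperty.of_isPullback (P := @Surjective) sq.flip inferInstance
  obtain ⟨x', rfl⟩ := gX.surjective x
  exact (inLocus_iff_of_isPullback sq x').mp (h x')

variable {k : Type u} [Field k]

/-- For a torsor, the projection is lci iff the group is. -/
theorem torsor_iff {P N X : Over (Spec (CommRingCat.of k))} [LocallyOfFiniteType N.hom] [LocallyOfFiniteType P.hom]
    [Surjective P.hom] (π : P ⟶ X) [Flat π.left] [Surjective π.left] [LocallyOfFinitePresentation π.left]
    {a : P ⊗ N ⟶ P} (sq : IsPullback a (fst P N) π π) :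
    (∀ x, InLocus π.left x) ↔ (∀ y, InLocus N.hom y) := by
  have sq₁ : IsPullback a.left (fst P N).left π.left π.left := sq.map (Over.forget _)
  have sq₂ : IsPullback (snd P N).left (fst P N).left N.hom P.hom :=
    (IsPullback.of_hasPullback P.hom N.hom).flip
  haveI : LocallyOfFinitePresentation N.hom := inferInstance
  haveI : Flat N.hom := inferInstance
  exact ⟨fun h => inLocus_of_surjective_pullback sq₂ fun z => (inLocus_iff_of_isPullback sq₁ z).mpr (h _),
    fun h => inLocus_of_surjective_pullback sq₁ fun z => (inLocus_iff_of_isPullback sq₂ z).mpr (h _)⟩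

instance formallySmooth_GLn (N : ℕ) : Algebra.FormallySmooth k (CoordGrp.GLn N k) := by
  refine Algebra.FormallySmooth.of_comp_surjective fun B _ _ I hI φ => ?_
  choose M hM using fun i j => Ideal.Quotient.mkₐ_surjective k I (φ (CoordGrp.GLn.X i j))
  have hdet : Ideal.Quotient.mkₐ k I (Matrix.det (Matrix.of M)) = φ CoordGrp.GLn.det := by
    rw [AlgHom.map_det, show CoordGrp.GLn.det = CoordGrp.GLn.mk N k (CoordGrp.GLb.det N k) from rfl,
      CoordGrp.GLb.det, AlgHom.map_det, AlgHom.map_det]
    congr 1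
    ext i j
    exact hM i j
  have hu : IsUnit (Matrix.det (Matrix.of M)) := by
    refine (IsNilpotent.isUnit_quotient_mk_iff (I := I) ⟨2, hI⟩).mp ?_
    rw [← Ideal.Quotient.mkₐ_eq_mk k I, hdet]
    exact IsUnit.of_mul_eq_one (φ CoordGrp.GLn.Dinv) (by rw [← map_mul, CoordGrp.GLn.det_mul_Dinv, map_one])
  let ψ₀ : CoordGrp.GLb N k →ₐ[k] B := CoordGrp.GLb.aeval N k (Matrix.of M) (↑hu.unit⁻¹ : B)
  have hψ : ∀ x ∈ CoordGrp.GLb.relIdeal N k, ψ₀ x = 0 := by
    have h0 : ψ₀ (CoordGrp.GLb.rel N k) = 0 := by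
      rw [CoordGrp.GLb.rel, map_sub, map_mul, map_one, CoordGrp.GLb.aeval_D, CoordGrp.GLb.det, AlgHom.map_det,
        CoordGrp.GLb.aeval_mapMatrix_genMat, IsUnit.mul_val_inv, sub_self]
    intro x hx
    obtain ⟨c, rfl⟩ := Ideal.mem_span_singleton'.mp hx
    rw [map_mul, h0, mul_zero]
  refine ⟨Ideal.Quotient.liftₐ _ ψ₀ hψ, ?_⟩
  refine Ideal.Quotient.algHom_ext k (CoordGrp.GLb.algHom_ext (fun i j => ?_) ?_)
  · show Ideal.Quotient.mkₐ k I (ψ₀ (CoordGrp.GLb.X i j)) = φ (CoordGrp.GLn.X i j)
    rw [CoordGrp.GLb.aeval_X]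
    exact hM i j
  · show Ideal.Quotient.mkₐ k I (ψ₀ CoordGrp.GLb.D) = φ CoordGrp.GLn.Dinv
    rw [CoordGrp.GLb.aeval_D]
    have h1 : φ CoordGrp.GLn.det * φ CoordGrp.GLn.Dinv = 1 := by
      rw [← map_mul, CoordGrp.GLn.det_mul_Dinv, map_one]
    have h2 : Ideal.Quotient.mkₐ k I (↑hu.unit⁻¹ : B) * φ CoordGrp.GLn.det = 1 := by
      rw [← hdet, ← map_mul, IsUnit.val_inv_mul, map_one]
    exact left_inv_eq_right_inv h2 h1

instance smooth_GLsch (N : ℕ) : Smooth (GrothLib.Repr.GLsch k N).hom := by
  haveI : Algebra.FiniteType k (CoordGrp.GLn N k) := inferInstance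
  haveI : Algebra.Smooth k (CoordGrp.GLn N k) :=
    ⟨inferInstance, (Algebra.FinitePresentation.of_finiteType).mp inferInstance⟩
  exact (HasRingHomProperty.Spec_iff (P := @Smooth)
    (φ := CommRingCat.ofHom (algebraMap k (CoordGrp.GLn N k)))).2 (RingHom.smooth_algebraMap.mpr inferInstance)

/-- An affine group scheme of finite type over a field is a local complete intersection. -/
theorem inLocus_of_isAffine (K : Over (Spec (CommRingCat.of k))) [GrpObj K] [LocallyOfFiniteType K.hom]
    [IsAffine K.left] (y : K.left) : InLocus K.hom y := by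
  obtain ⟨N, ρ, hρm, hρ⟩ := GrothLib.Repr.exists_faithful_GL K
  haveI : Mono ρ := ⟨fun {T} a b hab => GrothLib.Repr.hom_ext_pts fun R _ _ u => by
    refine inv_mul_eq_one.1 (hρ R ((u ≫ a)⁻¹ * (u ≫ b)) ?_)
    rw [MonObj.mul_comp, GrpObj.inv_comp, Category.assoc, Category.assoc, hab, inv_mul_cancel]⟩
  haveI : IsAffine (GrothLib.Repr.GLsch k N).left :=
    inferInstanceAs (IsAffine (Spec (CommRingCat.of (CoordGrp.GLn N k))))
  haveI : QuasiCompact K.hom := inferInstance
  obtain ⟨X, a, o, hXft, -, hflat, hsurj, hsq⟩ :=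
    Groth.Agent.S3279.result k (GrothLib.Repr.GLsch k N) K ρ
  let π := a.orbitMap o
  haveI : LocallyOfFiniteType π.left := by
    have h : LocallyOfFiniteType (π.left ≫ X.hom) := by rw [Over.w π]; infer_instance
    exact locallyOfFiniteType_of_comp π.left X.hom
  haveI := LocallyOfFiniteType.isLocallyNoetherian X.hom
  haveI : LocallyOfFinitePresentation π.left := inferInstance
  haveI : Smooth X.hom := GrothLib.FppfSource.fppfSourceDescends_smooth π.left X.hom hflat inferInstance hsurj
    (by rw [Over.w π]; infer_instance)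
  haveI : Surjective (GrothLib.Repr.GLsch k N).hom := GrothLib.GrpSchField.surjective_hom _
  refine (torsor_iff π hsq.flip).mp (fun x => ?_) y
  exact inLocus_cancel_smooth π.left X.hom (by rw [Over.w π]; exact inLocus_of_smooth _ x)

end GrothLib.LciGrp13
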